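import Cfsg.Agent.R2.Spec.X1.E6.ERSz
import Cfsg.Agent.S1064

/-!
# Identification of `E₆(q)`, `²E₆(q)`: the rows of `E₇(u)`, `E₈(u)` (helper77, statements S3480, S3481)
-/

set_option autoImplicit false
set_option linter.unusedSectionVars false

namespace Cfsg.Agent.R2.Spec.X1.E6.ERE8

open Cfsg Cfsg.Lie
open Cfsg.Agent.R2.Spec.X1.E6 Cfsg.Agent.H129 Cfsg.Agent.H129.CycT Cfsg.Agent.R2.Spec.X1.E6.ERBase Cfsg.Agent.R2.Spec.X1.E6.ERF4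
open Cfsg.Agent.R2.Spec.X1.E6.ERSz
open Cfsg.Agent.H378.ExcAdj Cfsg.Agent.H378.CycTab Cfsg.Agent.H72.F4I

universe u

/-! ### the polynomials -/

/-- `Φ₁₅` -/
def P15 (v : ℤ) : ℤ := 1 - v + v ^ 3 - v ^ 4 + v ^ 5 - v ^ 7 + v ^ 8
/-- `Φ₂₀` -/
def P20 (v : ℤ) : ℤ := 1 - v ^ 2 + v ^ 4 - v ^ 6 + v ^ 8
/-- `Φ₂₄` -/
def P24 (v : ℤ) : ℤ := 1 - v ^ 4 + v ^ 8
/-- `Φ₃₀` -/
def P30 (v : ℤ) : ℤ := 1 + v - v ^ 3 - v ^ 4 - v ^ 5 + v ^ 7 + v ^ 8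
/-- `Φ₂₀ - Φ₁₅` -/
def X1 (v : ℤ) : ℤ := v * (v ^ 2 - 1) ^ 2 * (v ^ 2 - v + 1)
/-- `Φ₂₄ - Φ₁₅` -/
def X2 (v : ℤ) : ℤ := v * (v ^ 2 - 1) ^ 2 * (v ^ 2 + 1)
/-- `Φ₃₀ - Φ₂₀` -/
def X3 (v : ℤ) : ℤ := v * (v ^ 2 - 1) ^ 2 * (v ^ 2 + v + 1)
/-- `q (q² - 1)²` -/
def Q5 (q : ℤ) : ℤ := q * (q ^ 2 - 1) ^ 2

theorem le_p {v : ℤ} (hv : 3 ≤ v) : 542 * P30 v ≤ 1000 * P15 v := by
  obtain ⟨w, rfl⟩ : ∃ w : ℕ, v = (w : ℤ) + 3 := ⟨(v - 3).toNat, by omega⟩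
  have h : 1000 * P15 ((w : ℤ) + 3) - 542 * P30 ((w : ℤ) + 3) =
      7658 + 759480 * (w : ℤ) + 1885356 * (w : ℤ) ^ 2 + 1995720 * (w : ℤ) ^ 3 + 1162342 * (w : ℤ) ^ 4 + 402600 * (w : ℤ) ^ 5 + 83034 * (w : ℤ) ^ 6 + 9450 * (w : ℤ) ^ 7 + 458 * (w : ℤ) ^ 8 := by
    rw [P15, P30]
    ring
  have h' : (0 : ℤ) < 7658 + 759480 * (w : ℤ) + 1885356 * (w : ℤ) ^ 2 + 1995720 * (w : ℤ) ^ 3 + 1162342 * (w : ℤ) ^ 4 + 402600 * (w : ℤ) ^ 5 + 83034 * (w : ℤ) ^ 6 + 9450 * (w : ℤ) ^ 7 + 458 * (w : ℤ) ^ 8 := by positivity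
  linarith

theorem le_15 {v : ℤ} (hv : 3 ≤ v) : P15 v ≤ P20 v := by
  obtain ⟨w, rfl⟩ : ∃ w : ℕ, v = (w : ℤ) + 3 := ⟨(v - 3).toNat, by omega⟩
  have h : P20 ((w : ℤ) + 3) - P15 ((w : ℤ) + 3) =
      1344 + 3424 * (w : ℤ) + 3716 * (w : ℤ) ^ 2 + 2228 * (w : ℤ) ^ 3 + 797 * (w : ℤ) ^ 4 + 170 * (w : ℤ) ^ 5 + 20 * (w : ℤ) ^ 6 + 1 * (w : ℤ) ^ 7 := by
    rw [P15, P20]
    ring
  have h' : (0 : ℤ) < 1344 + 3424 * (w : ℤ) + 3716 * (w : ℤ) ^ 2 + 2228 * (w : ℤ) ^ 3 + 797 * (w : ℤ) ^ 4 + 170 * (w : ℤ) ^ 5 + 20 * (w : ℤ) ^ 6 + 1 * (w : ℤ) ^ 7 := by positivity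
  linarith

theorem le_20 {v : ℤ} (hv : 3 ≤ v) : P20 v ≤ P24 v := by
  obtain ⟨w, rfl⟩ : ∃ w : ℕ, v = (w : ℤ) + 3 := ⟨(v - 3).toNat, by omega⟩
  have h : P24 ((w : ℤ) + 3) - P20 ((w : ℤ) + 3) =
      576 + 1248 * (w : ℤ) + 1108 * (w : ℤ) ^ 2 + 516 * (w : ℤ) ^ 3 + 133 * (w : ℤ) ^ 4 + 18 * (w : ℤ) ^ 5 + 1 * (w : ℤ) ^ 6 := by
    rw [P20, P24]
    ring
  have h' : (0 : ℤ) < 576 + 1248 * (w : ℤ) + 1108 * (w : ℤ) ^ 2 + 516 * (w : ℤ) ^ 3 + 133 * (w : ℤ) ^ 4 + 18 * (w : ℤ) ^ 5 + 1 * (w : ℤ) ^ 6 := by positivity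
  linarith

theorem le_24 {v : ℤ} (hv : 3 ≤ v) : P24 v ≤ P30 v := by
  obtain ⟨w, rfl⟩ : ∃ w : ℕ, v = (w : ℤ) + 3 := ⟨(v - 3).toNat, by omega⟩
  have h : P30 ((w : ℤ) + 3) - P24 ((w : ℤ) + 3) =
      1920 + 4672 * (w : ℤ) + 4824 * (w : ℤ) ^ 2 + 2744 * (w : ℤ) ^ 3 + 930 * (w : ℤ) ^ 4 + 188 * (w : ℤ) ^ 5 + 21 * (w : ℤ) ^ 6 + 1 * (w : ℤ) ^ 7 := by
    rw [P24, P30]
    ring
  have h' : (0 : ℤ) < 1920 + 4672 * (w : ℤ) + 4824 * (w : ℤ) ^ 2 + 2744 * (w : ℤ) ^ 3 + 930 * (w : ℤ) ^ 4 + 188 * (w : ℤ) ^ 5 + 21 * (w : ℤ) ^ 6 + 1 * (w : ℤ) ^ 7 := by positivity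
  linarith

theorem lt_X {v : ℤ} (hv : 3 ≤ v) : (v + 1) * v ^ 2 * (v + 2) ^ 2 < X1 v := by
  obtain ⟨w, rfl⟩ : ∃ w : ℕ, v = (w : ℤ) + 3 := ⟨(v - 3).toNat, by omega⟩
  have h : X1 ((w : ℤ) + 3) - ((w : ℤ) + 3 + 1) * ((w : ℤ) + 3) ^ 2 * ((w : ℤ) + 3 + 2) ^ 2 =
      444 + 2239 * (w : ℤ) + 3100 * (w : ℤ) ^ 2 + 2070 * (w : ℤ) ^ 3 + 777 * (w : ℤ) ^ 4 + 169 * (w : ℤ) ^ 5 + 20 * (w : ℤ) ^ 6 + 1 * (w : ℤ) ^ 7 := by
    rw [X1]
    ring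
  have h' : (0 : ℤ) < 444 + 2239 * (w : ℤ) + 3100 * (w : ℤ) ^ 2 + 2070 * (w : ℤ) ^ 3 + 777 * (w : ℤ) ^ 4 + 169 * (w : ℤ) ^ 5 + 20 * (w : ℤ) ^ 6 + 1 * (w : ℤ) ^ 7 := by positivity
  linarith

theorem le_a {v : ℤ} (hv : 3 ≤ v) : P20 v ≤ (v + 2) * X1 v := by
  obtain ⟨w, rfl⟩ : ∃ w : ℕ, v = (w : ℤ) + 3 := ⟨(v - 3).toNat, by omega⟩
  have h : ((w : ℤ) + 3 + 2) * X1 ((w : ℤ) + 3) - P20 ((w : ℤ) + 3) =
      815 + 2324 * (w : ℤ) + 2754 * (w : ℤ) ^ 2 + 1776 * (w : ℤ) ^ 3 + 677 * (w : ℤ) ^ 4 + 153 * (w : ℤ) ^ 5 + 19 * (w : ℤ) ^ 6 + 1 * (w : ℤ) ^ 7 := by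
    rw [X1, P20]
    ring
  have h' : (0 : ℤ) < 815 + 2324 * (w : ℤ) + 2754 * (w : ℤ) ^ 2 + 1776 * (w : ℤ) ^ 3 + 677 * (w : ℤ) ^ 4 + 153 * (w : ℤ) ^ 5 + 19 * (w : ℤ) ^ 6 + 1 * (w : ℤ) ^ 7 := by positivity
  linarith

theorem le_b {v : ℤ} (hv : 3 ≤ v) : P30 v ≤ (v + 2) * X2 v := by
  obtain ⟨w, rfl⟩ : ∃ w : ℕ, v = (w : ℤ) + 3 := ⟨(v - 3).toNat, by omega⟩
  have h : ((w : ℤ) + 3 + 2) * X2 ((w : ℤ) + 3) - P30 ((w : ℤ) + 3) =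
      1199 + 3220 * (w : ℤ) + 3610 * (w : ℤ) ^ 2 + 2204 * (w : ℤ) ^ 3 + 795 * (w : ℤ) ^ 4 + 170 * (w : ℤ) ^ 5 + 20 * (w : ℤ) ^ 6 + 1 * (w : ℤ) ^ 7 := by
    rw [X2, P30]
    ring
  have h' : (0 : ℤ) < 1199 + 3220 * (w : ℤ) + 3610 * (w : ℤ) ^ 2 + 2204 * (w : ℤ) ^ 3 + 795 * (w : ℤ) ^ 4 + 170 * (w : ℤ) ^ 5 + 20 * (w : ℤ) ^ 6 + 1 * (w : ℤ) ^ 7 := by positivity
  linarith

theorem le_X2 {v : ℤ} (hv : 3 ≤ v) : X1 v ≤ X2 v := by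
  obtain ⟨w, rfl⟩ : ∃ w : ℕ, v = (w : ℤ) + 3 := ⟨(v - 3).toNat, by omega⟩
  have h : X2 ((w : ℤ) + 3) - X1 ((w : ℤ) + 3) =
      576 + 1248 * (w : ℤ) + 1108 * (w : ℤ) ^ 2 + 516 * (w : ℤ) ^ 3 + 133 * (w : ℤ) ^ 4 + 18 * (w : ℤ) ^ 5 + 1 * (w : ℤ) ^ 6 := by
    rw [X1, X2]
    ring
  have h' : (0 : ℤ) < 576 + 1248 * (w : ℤ) + 1108 * (w : ℤ) ^ 2 + 516 * (w : ℤ) ^ 3 + 133 * (w : ℤ) ^ 4 + 18 * (w : ℤ) ^ 5 + 1 * (w : ℤ) ^ 6 := by positivity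
  linarith

theorem le_X3 {v : ℤ} (hv : 3 ≤ v) : X2 v ≤ X3 v := by
  obtain ⟨w, rfl⟩ : ∃ w : ℕ, v = (w : ℤ) + 3 := ⟨(v - 3).toNat, by omega⟩
  have h : X3 ((w : ℤ) + 3) - X2 ((w : ℤ) + 3) =
      576 + 1248 * (w : ℤ) + 1108 * (w : ℤ) ^ 2 + 516 * (w : ℤ) ^ 3 + 133 * (w : ℤ) ^ 4 + 18 * (w : ℤ) ^ 5 + 1 * (w : ℤ) ^ 6 := by
    rw [X2, X3]
    ring
  have h' : (0 : ℤ) < 576 + 1248 * (w : ℤ) + 1108 * (w : ℤ) ^ 2 + 516 * (w : ℤ) ^ 3 + 133 * (w : ℤ) ^ 4 + 18 * (w : ℤ) ^ 5 + 1 * (w : ℤ) ^ 6 := by positivity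
  linarith

theorem q_one {v : ℤ} (hv : 3 ≤ v) : 1000 * Q5 v < 626 * (v ^ 6 - v ^ 3 + 1) := by
  obtain ⟨w, rfl⟩ : ∃ w : ℕ, v = (w : ℤ) + 3 := ⟨(v - 3).toNat, by omega⟩
  have h : 626 * (((w : ℤ) + 3) ^ 6 - ((w : ℤ) + 3) ^ 3 + 1) - 1000 * Q5 ((w : ℤ) + 3) =
      248078 + 543806 * (w : ℤ) + 502956 * (w : ℤ) ^ 2 + 249414 * (w : ℤ) ^ 3 + 69510 * (w : ℤ) ^ 4 + 10268 * (w : ℤ) ^ 5 + 626 * (w : ℤ) ^ 6 := by
    rw [Q5]
    ring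
  have h' : (0 : ℤ) < 248078 + 543806 * (w : ℤ) + 502956 * (w : ℤ) ^ 2 + 249414 * (w : ℤ) ^ 3 + 69510 * (w : ℤ) ^ 4 + 10268 * (w : ℤ) ^ 5 + 626 * (w : ℤ) ^ 6 := by positivity
  linarith

theorem q_two {v : ℤ} (hv : 4 ≤ v) : 1626 * Q5 v < 626 * (v ^ 6 - v ^ 3 + 1) := by
  obtain ⟨w, rfl⟩ : ∃ w : ℕ, v = (w : ℤ) + 4 := ⟨(v - 4).toNat, by omega⟩
  have h : 626 * (((w : ℤ) + 4) ^ 6 - ((w : ℤ) + 4) ^ 3 + 1) - 1626 * Q5 ((w : ℤ) + 4) =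
      1061258 + 1889286 * (w : ℤ) + 1394712 * (w : ℤ) ^ 2 + 543746 * (w : ℤ) ^ 3 + 117720 * (w : ℤ) ^ 4 + 13398 * (w : ℤ) ^ 5 + 626 * (w : ℤ) ^ 6 := by
    rw [Q5]
    ring
  have h' : (0 : ℤ) < 1061258 + 1889286 * (w : ℤ) + 1394712 * (w : ℤ) ^ 2 + 543746 * (w : ℤ) ^ 3 + 117720 * (w : ℤ) ^ 4 + 13398 * (w : ℤ) ^ 5 + 626 * (w : ℤ) ^ 6 := by positivity
  linarith

theorem q_three {v : ℤ} (hv : 4 ≤ v) : 3000 * Q5 v < 794 * (v ^ 6 - v ^ 3 + 1) := by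
  obtain ⟨w, rfl⟩ : ∃ w : ℕ, v = (w : ℤ) + 4 := ⟨(v - 4).toNat, by omega⟩
  have h : 794 * (((w : ℤ) + 4) ^ 6 - ((w : ℤ) + 4) ^ 3 + 1) - 3000 * Q5 ((w : ℤ) + 4) =
      502202 + 1285224 * (w : ℤ) + 1191432 * (w : ℤ) ^ 2 + 541526 * (w : ℤ) ^ 3 + 130560 * (w : ℤ) ^ 4 + 16056 * (w : ℤ) ^ 5 + 794 * (w : ℤ) ^ 6 := by
    rw [Q5]
    ring
  have h' : (0 : ℤ) < 502202 + 1285224 * (w : ℤ) + 1191432 * (w : ℤ) ^ 2 + 541526 * (w : ℤ) ^ 3 + 130560 * (w : ℤ) ^ 4 + 16056 * (w : ℤ) ^ 5 + 794 * (w : ℤ) ^ 6 := by positivity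
  linarith

theorem p_ge {v : ℤ} (hv : 3 ≤ v) : 4560 < P15 v := by
  obtain ⟨w, rfl⟩ : ∃ w : ℕ, v = (w : ℤ) + 3 := ⟨(v - 3).toNat, by omega⟩
  have h : P15 ((w : ℤ) + 3) - 4560 =
      1 + 12716 * (w : ℤ) + 15534 * (w : ℤ) ^ 2 + 10852 * (w : ℤ) ^ 3 + 4739 * (w : ℤ) ^ 4 + 1324 * (w : ℤ) ^ 5 + 231 * (w : ℤ) ^ 6 + 23 * (w : ℤ) ^ 7 + 1 * (w : ℤ) ^ 8 := by
    rw [P15]
    ring
  have h' : (0 : ℤ) < 1 + 12716 * (w : ℤ) + 15534 * (w : ℤ) ^ 2 + 10852 * (w : ℤ) ^ 3 + 4739 * (w : ℤ) ^ 4 + 1324 * (w : ℤ) ^ 5 + 231 * (w : ℤ) ^ 6 + 23 * (w : ℤ) ^ 7 + 1 * (w : ℤ) ^ 8 := by positivity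
  linarith

/-! ### the equations -/

/-- the difference is large -/
theorem core {v q d ε n X : ℤ} (hv : 3 ≤ v) (hq : 3 ≤ q) (hd : 1 ≤ d) (hε : ε = 1 ∨ ε = -1)
    (hX1 : X1 v ≤ X) (hX2 : n ≤ (v + 2) * X) (h : d * X = Q5 q) (hn : d * n = q ^ 6 + ε * q ^ 3 + 1) : False := by
  have hX0 : 0 ≤ X := by
    refine le_trans ?_ hX1
    rw [X1]
    have : 0 ≤ v ^ 2 - v + 1 := by nlinarith
    positivity
  have h1 : v + 2 ≤ q := by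
    by_contra hc
    have h2 : q ≤ v + 1 := by omega
    have h3 : q ^ 2 - 1 ≤ v * (v + 2) := by nlinarith
    have h4 : 0 ≤ q ^ 2 - 1 := by nlinarith
    have h5 : (q ^ 2 - 1) ^ 2 ≤ (v * (v + 2)) ^ 2 := pow_le_pow_left₀ h4 h3 2
    have h6 : Q5 q ≤ (v + 1) * (v * (v + 2)) ^ 2 := by
      rw [Q5]
      exact mul_le_mul h2 h5 (sq_nonneg _) (by linarith)
    have h7 : (v + 1) * (v * (v + 2)) ^ 2 = (v + 1) * v ^ 2 * (v + 2) ^ 2 := by ring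
    have h8 := lt_X hv
    have h9 : X ≤ d * X := by nlinarith
    linarith
  have h2 : d * n ≤ d * ((v + 2) * X) := mul_le_mul_of_nonneg_left hX2 (by linarith)
  have h3 : d * ((v + 2) * X) = (v + 2) * Q5 q := by rw [← h]; ring
  have hQ : 0 ≤ Q5 q := by rw [← h]; positivity
  have h4 : (v + 2) * Q5 q ≤ q * Q5 q := mul_le_mul_of_nonneg_right h1 hQ
  have h5 : q * Q5 q = q ^ 6 - 2 * q ^ 4 + q ^ 2 := by rw [Q5]; ring
  have h6 : q ^ 3 * 3 ≤ q ^ 4 := by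
    have : q ^ 4 = q ^ 3 * q := by ring
    rw [this]
    exact mul_le_mul_of_nonneg_left hq (by positivity)
  have h7 : q ^ 2 * 3 ≤ q ^ 3 := by
    have : q ^ 3 = q ^ 2 * q := by ring
    rw [this]
    exact mul_le_mul_of_nonneg_left hq (by positivity)
  have h8 : 0 ≤ q ^ 2 := sq_nonneg _
  rcases hε with rfl | rfl <;> linarith

/-- the difference is small -/
theorem core' {v q d ε n : ℤ} (hv : 3 ≤ v) (hq : 3 ≤ q) (hd : 1 ≤ d) (hd3 : d ≤ 3) (hε : ε = 1 ∨ ε = -1)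
    (hn20 : P20 v ≤ n) (h : d * (v ^ 2 * (v ^ 2 - 1) ^ 2) = Q5 q) (hn : d * n = q ^ 6 + ε * q ^ 3 + 1) : False := by
  obtain ⟨r, hr⟩ : ∃ r, r = v ^ 2 := ⟨_, rfl⟩
  have hr9 : 9 ≤ r := by rw [hr]; nlinarith
  rw [← hr] at h
  have h1 : q + 1 ≤ r := by
    by_contra hc
    have h2 : r ≤ q := by omega
    have h3 : (r - 1) ^ 2 ≤ (q - 1) ^ 2 := pow_le_pow_left₀ (by linarith) (by linarith) 2
    have h4 : r * (r - 1) ^ 2 ≤ q * (q - 1) ^ 2 := mul_le_mul h2 h3 (sq_nonneg _) (by linarith)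
    have h5 : d * (r * (r - 1) ^ 2) ≤ 3 * (q * (q - 1) ^ 2) := by
      calc d * (r * (r - 1) ^ 2) ≤ 3 * (r * (r - 1) ^ 2) := mul_le_mul_of_nonneg_right hd3 (by positivity)
        _ ≤ _ := mul_le_mul_of_nonneg_left h4 (by norm_num)
    have h6 : Q5 q = (q + 1) ^ 2 * (q * (q - 1) ^ 2) := by rw [Q5]; ring
    have h7 : 0 < q * (q - 1) ^ 2 := by
      have : 0 < q - 1 := by linarith
      positivity
    have h8 : 16 * (q * (q - 1) ^ 2) ≤ (q + 1) ^ 2 * (q * (q - 1) ^ 2) :=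
      mul_le_mul_of_nonneg_right (by nlinarith) h7.le
    linarith
  have hP : P20 v = r * (r - 1) ^ 2 * (r + 1) + (2 * r * (r - 1) + 1) := by rw [P20, hr]; ring
  have hQ : 0 ≤ Q5 q := by rw [Q5]; positivity
  have h2 : (q + 2) * Q5 q ≤ (r + 1) * Q5 q := mul_le_mul_of_nonneg_right (by linarith) hQ
  have h3 : d * P20 v = (r + 1) * Q5 q + d * (2 * r * (r - 1) + 1) := by rw [hP, ← h]; ring
  have h4 : d * P20 v ≤ d * n := mul_le_mul_of_nonneg_left hn20 (by linarith)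
  have h5 : 1 ≤ d * (2 * r * (r - 1) + 1) := by
    have : 1 ≤ 2 * r * (r - 1) + 1 := by nlinarith
    nlinarith
  have h6 : (q + 2) * Q5 q = q ^ 6 + 2 * q ^ 5 - 2 * q ^ 4 - 4 * q ^ 3 + q ^ 2 + 2 * q := by rw [Q5]; ring
  have h7 : q ^ 4 * 3 ≤ q ^ 5 := by
    have : q ^ 5 = q ^ 4 * q := by ring
    rw [this]
    exact mul_le_mul_of_nonneg_left hq (by positivity)
  have h8 : q ^ 3 * 3 ≤ q ^ 4 := by
    have : q ^ 4 = q ^ 3 * q := by ring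
    rw [this]
    exact mul_le_mul_of_nonneg_left hq (by positivity)
  have h9 : 0 ≤ q ^ 3 := by positivity
  have h10 : 0 ≤ q ^ 2 := by positivity
  rcases hε with rfl | rfl <;> linarith

theorem not_five {x ε : ℤ} (hε : ε = 1 ∨ ε = -1) : ¬ (5 : ℤ) ∣ x ^ 2 + ε * x + 1 := by
  intro h
  obtain ⟨k, hk⟩ : ∃ k : ℤ, x = 5 * k ∨ x = 5 * k + 1 ∨ x = 5 * k + 2 ∨ x = 5 * k + 3 ∨ x = 5 * k + 4 :=
    ⟨x / 5, by omega⟩
  rcases hε with rfl | rfl <;> rcases hk with rfl | rfl | rfl | rfl | rfl <;> ring_nf at h <;> omega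

/-- **The numbers.** -/
theorem num {D : Dat} {v a : ℕ} (hv : 2 ≤ v)
    (hn : (D.n : ℤ) = P15 v ∨ (D.n : ℤ) = P20 v ∨ (D.n : ℤ) = P24 v ∨ (D.n : ℤ) = P30 v)
    (ha : (a : ℤ) = P15 v ∨ (a : ℤ) = P20 v ∨ (a : ℤ) = P24 v ∨ (a : ℤ) = P30 v) (hm : D.m ∣ a)
    (he : a ∣ D.e) : False := by
  have hne := mne hm
  have hne' : (a : ℤ) ≠ D.n := by exact_mod_cast hne
  -- `3 ≤ v`, `3 ≤ q`
  have hv3 : 3 ≤ v := by
    by_contra hc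
    obtain rfl : v = 2 := by omega
    have h1 : D.n = 151 ∨ D.n = 205 ∨ D.n = 241 ∨ D.n = 331 := by
      rw [P15, P20, P24, P30] at hn
      norm_num at hn
      omega
    by_cases hq : D.q < 8
    · rcases tab D hq with h | h | h | h | h | h | h | h | h | h <;> omega
    · have := n_ge (D := D) (by omega)
      omega
  have hvz : (3 : ℤ) ≤ v := by exact_mod_cast hv3
  have l1 := le_15 hvz
  have l2 := le_20 hvz
  have l3 := le_24 hvz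
  have l4 := le_p hvz
  have hn15 : P15 v ≤ D.n := by rcases hn with h | h | h | h <;> linarith
  have hn30 : (D.n : ℤ) ≤ P30 v := by rcases hn with h | h | h | h <;> linarith
  have ha15 : P15 v ≤ a := by rcases ha with h | h | h | h <;> linarith
  have ha30 : (a : ℤ) ≤ P30 v := by rcases ha with h | h | h | h <;> linarith
  have h4561 := p_ge hvz
  have hq5 : 5 ≤ D.q := by
    by_contra hc
    rcases tab D (by omega) with h | h | h | h | h | h | h | h | h | h <;> omega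
  have hqz : (5 : ℤ) ≤ D.q := by exact_mod_cast hq5
  obtain ⟨l, hl⟩ := he
  have hlz : (l : ℤ) * a = D.d * D.n + D.ε * Q5 D.q := by
    have h1 : (D.e : ℤ) = a * l := by exact_mod_cast hl
    have h2 : (l : ℤ) * a = D.e := by rw [h1]; ring
    rw [h2, D.he, D.hm, D.hn, Q5]
    have h3 := D.eps_sq
    ring
  have hl2 : l % 2 = 1 := by
    by_contra hc
    have h1 : 2 ∣ l := by omega
    exact D.e_odd (hl ▸ h1.mul_left _)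
  have hQ : 0 ≤ Q5 D.q := by rw [Q5]; positivity
  have hεQ : D.ε * Q5 D.q ≤ Q5 D.q := by rcases D.eps with h | h <;> rw [h] <;> linarith
  have hεQ' : -Q5 D.q ≤ D.ε * Q5 D.q := by rcases D.eps with h | h <;> rw [h] <;> linarith
  have hN := D.hn
  have hNge : (D.q : ℤ) ^ 6 - (D.q : ℤ) ^ 3 + 1 ≤ D.d * D.n := by
    have : 0 ≤ (D.q : ℤ) ^ 3 := by positivity
    rw [hN]
    rcases D.eps with h | h <;> rw [h] <;> linarith
  have hla : ∀ c : ℤ, c ≤ l → c * a ≤ l * a := fun c hc => mul_le_mul_of_nonneg_right hc (by positivity)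
  have key : l = D.d := by
    rcases D.hd with hd | hd
    · rw [hd] at hlz hNge ⊢
      push_cast at hlz hNge
      by_contra hc
      have h1 := hla 3 (by omega)
      have h2 := q_one (v := D.q) (by linarith)
      linarith
    · rw [hd] at hlz hNge ⊢
      push_cast at hlz hNge
      by_contra hc
      have h3 : l = 1 ∨ l = 5 ∨ 7 ≤ l := by omega
      rcases h3 with rfl | rfl | h3
      · have h2 := q_two (v := D.q) (by linarith)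
        push_cast at hlz
        linarith
      · exfalso
        have h5 : 5 ∣ D.e := hl ▸ Dvd.intro_left _ rfl
        have h6 : (5 : ℤ) ∣ ((D.q : ℤ) ^ 2 + D.ε * D.q + 1) * D.m := by
          rw [← D.he]
          exact_mod_cast h5
        have hp5 : Prime (5 : ℤ) := Nat.prime_iff_prime_int.1 Nat.prime_five
        rcases hp5.dvd_mul.1 h6 with h7 | h7
        · exact not_five D.eps h7
        · have h8 : 5 ∣ D.m := by exact_mod_cast h7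
          have := D.prime_m Nat.prime_five h8
          omega
      · have h1 := hla 7 (by exact_mod_cast h3)
        have h2 := q_three (v := D.q) (by linarith)
        linarith
  rw [key] at hlz
  have hd1 := d_ge D
  have habs : (D.d : ℤ) * |(a : ℤ) - D.n| = Q5 D.q := by
    have h1 : (D.d : ℤ) * (a - D.n) = D.ε * Q5 D.q := by linarith
    have h2 : |(D.d : ℤ) * (a - D.n)| = |D.ε * Q5 D.q| := by rw [h1]
    rw [abs_mul, abs_mul, D.eps_abs, one_mul, abs_of_nonneg hQ, abs_of_nonneg (by linarith : (0 : ℤ) ≤ D.d)] at h2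
    exact h2
  have hX2 := le_X2 hvz
  have hX3 := le_X3 hvz
  have hXb := le_b hvz
  have hXa := le_a hvz
  have hv2 : (0 : ℤ) ≤ v + 2 := by linarith
  have hX0 : 0 ≤ X2 v := by rw [X2]; positivity
  have big : X2 v ≤ |(a : ℤ) - D.n| → False := fun h =>
    core hvz (by linarith) hd1 D.eps (hX2.trans h)
      (hn30.trans (hXb.trans (mul_le_mul_of_nonneg_left h hv2))) habs hN
  have mid : |(a : ℤ) - D.n| = X1 v → (D.n : ℤ) ≤ P20 v → False := fun h h' =>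
    core hvz (by linarith) hd1 D.eps h.ge (by rw [h]; exact h'.trans hXa) habs hN
  have small : |(a : ℤ) - D.n| = v ^ 2 * (v ^ 2 - 1) ^ 2 → P20 v ≤ D.n → False := fun h h' =>
    core' hvz (by linarith) hd1 (d_le D) D.eps h' (h ▸ habs) hN
  have e1 : P20 v - P15 v = X1 v := by rw [P20, P15, X1]; ring
  have e2 : P24 v - P15 v = X2 v := by rw [P24, P15, X2]; ring
  have e3 : P30 v - P24 v = X2 v := by rw [P30, P24, X2]; ring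
  have e4 : P30 v - P20 v = X3 v := by rw [P30, P20, X3]; ring
  have e5 : P24 v - P20 v = v ^ 2 * (v ^ 2 - 1) ^ 2 := by rw [P24, P20]; ring
  have e6 : P30 v - P15 v = X2 v + X2 v := by linarith
  rcases hn with hn | hn | hn | hn <;> rcases ha with ha | ha | ha | ha
  · exact hne' (by rw [ha, hn])
  · refine mid ?_ (by linarith)
    rw [ha, hn, abs_of_nonneg (by linarith), e1]
  · refine big ?_
    rw [ha, hn, abs_of_nonneg (by linarith), e2]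
  · refine big ?_
    rw [ha, hn, abs_of_nonneg (by linarith), e6]
    linarith
  · refine mid ?_ hn.le
    rw [ha, hn, abs_sub_comm, abs_of_nonneg (by linarith), e1]
  · exact hne' (by rw [ha, hn])
  · refine small ?_ hn.ge
    rw [ha, hn, abs_of_nonneg (by linarith), e5]
  · refine big ?_
    rw [ha, hn, abs_of_nonneg (by linarith), e4]
    exact hX3
  · refine big ?_
    rw [ha, hn, abs_sub_comm, abs_of_nonneg (by linarith), e2]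
  · refine small ?_ (by linarith)
    rw [ha, hn, abs_sub_comm, abs_of_nonneg (by linarith), e5]
  · exact hne' (by rw [ha, hn])
  · refine big ?_
    rw [ha, hn, abs_of_nonneg (by linarith), e3]
  · refine big ?_
    rw [ha, hn, abs_sub_comm, abs_of_nonneg (by linarith), e6]
    linarith
  · refine big ?_
    rw [ha, hn, abs_sub_comm, abs_of_nonneg (by linarith), e4]
    exact hX3
  · refine big ?_
    rw [ha, hn, abs_sub_comm, abs_of_nonneg (by linarith), e3]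
  · exact hne' (by rw [ha, hn])

/-! ### the rows -/

variable {F : Type u} [Field F] [Fintype F]

/-- **`E₈(u)`** -/
theorem row_E8 {D : Dat} (h : Sit D ↥(chevE8.group F)) : False := by
  obtain ⟨v, hv⟩ : ∃ v, Fintype.card F = v := ⟨_, rfl⟩
  have hcu : Nat.card F = v := by rw [Nat.card_eq_fintype_card, hv]
  have hv2 : 2 ≤ v := by rw [← hv]; exact Fintype.one_lt_card
  have hn : (D.n : ℤ) = P15 v ∨ (D.n : ℤ) = P20 v ∨ (D.n : ℤ) = P24 v ∨ (D.n : ℤ) = P30 v :=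
    e8_row hv (isoN h) fun h5 => by
      have := D.prime_n Nat.prime_five h5
      omega
  obtain ⟨t, ht, htm, ht13, htc⟩ := h.exists_prime_m
  have h1 := ((adj_E8 F ht htc).resolve_left (ne_two htm)).resolve_left (h.not_adj_two_m htm)
  rw [hcu] at h1
  obtain ⟨w, rfl⟩ : ∃ w, v = w + 2 := ⟨v - 2, by omega⟩
  obtain ⟨N15, hN15⟩ := H528.TDRow.E78.nn15 w
  obtain ⟨N20, hN20⟩ := H528.TDRow.E78.nn20 w
  obtain ⟨N24, hN24⟩ := H528.TDRow.E78.nn24 w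
  obtain ⟨N30, hN30⟩ := H528.TDRow.E78.nn30 w
  have x15 : CycExact ↥(chevE8.group F) N15 := exact_E8_15 hv hN15
  have x24 : CycExact ↥(chevE8.group F) N24 := exact_E8_24 hv hN24
  have x30 : CycExact ↥(chevE8.group F) N30 := exact_E8_30 hv hN30
  rcases h1 with h1 | h1 | h1 | h1
  · have hd := dvd15 ht h1
    have hd' : t ∣ N15 := by
      rw [← Int.natCast_dvd_natCast, hN15]
      rw [pv15] at hd
      refine hd.trans (dvd_of_eq ?_)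
      ring
    obtain ⟨h2, h3⟩ := exact' h x15 ht hd' htm
    exact num hv2 hn (Or.inl hN15) h2 h3
  · obtain ⟨T20, hT20c, hT20, hT20'⟩ := H528.TDRow.E78.torus_E8_20 (F := F) hv hN20
    have hd := dvd20 ht h1
    have hd' : t ∣ N20 := by
      rw [← Int.natCast_dvd_natCast, hN20]
      rw [pv20] at hd
      refine hd.trans (dvd_of_eq ?_)
      ring
    obtain ⟨h2, h3⟩ := h.card_dvd hT20c ht (by rw [hT20]; exact hd') (hT20' t ht hd' (by omega)) htm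
    rw [hT20] at h2 h3
    exact num hv2 hn (Or.inr (Or.inl hN20)) h2 h3
  · have hd := dvd24 ht h1
    have hd' : t ∣ N24 := by
      rw [← Int.natCast_dvd_natCast, hN24]
      rw [pv24] at hd
      refine hd.trans (dvd_of_eq ?_)
      ring
    obtain ⟨h2, h3⟩ := exact' h x24 ht hd' htm
    exact num hv2 hn (Or.inr (Or.inr (Or.inl hN24))) h2 h3
  · have hd := dvd30 ht h1
    have hd' : t ∣ N30 := by
      rw [← Int.natCast_dvd_natCast, hN30]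
      rw [pv30] at hd
      refine hd.trans (dvd_of_eq ?_)
      ring
    obtain ⟨h2, h3⟩ := exact' h x30 ht hd' htm
    exact num hv2 hn (Or.inr (Or.inr (Or.inr hN30))) h2 h3

/-- **`E₇(u)`** -/
theorem row_E7 {D : Dat} (h : Sit D ↥(chevE7.group F)) : False := by
  obtain ⟨v, hv⟩ : ∃ v, Fintype.card F = v := ⟨_, rfl⟩
  have hn := e7_row hv (isoN h)
  have hq8 : D.q < 8 := by
    by_contra hc
    have := n_ge (D := D) (by omega)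
    omega
  rcases hn with ⟨rfl, hn⟩ | ⟨rfl, hn⟩
  · have hq : D.q = 2 ∧ D.ε = 1 := by
      rcases tab D hq8 with h | h | h | h | h | h | h | h | h | h <;> omega
    have hc := S1064.result hv
    have h3 : 127 ∣ Nat.card ↥(chevE7.group F) := by
      norm_num at hc
      rw [hc]
      norm_num
    have := h.prm 127 (by norm_num) h3
    rw [hq.1, hq.2] at this
    revert this
    norm_num
  · have hq : D.q = 3 ∧ D.ε = 1 := by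
      rcases tab D hq8 with h | h | h | h | h | h | h | h | h | h <;> omega
    have hc := S1064.result hv
    have h3 : 1093 ∣ Nat.card ↥(chevE7.group F) := by
      have h4 : 1093 ∣ 2 * Nat.card ↥(chevE7.group F) := by
        norm_num at hc
        rw [hc]
        norm_num
      exact (Nat.Coprime.dvd_of_dvd_mul_left (by norm_num) h4)
    have := h.prm 1093 (by norm_num) h3
    rw [hq.1, hq.2] at this
    revert this
    norm_num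

end Cfsg.Agent.R2.Spec.X1.E6.ERE8
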