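import Cfsg.Agent.R2.Spec.X1.E6.ERF4
import Cfsg.Agent.H72.F4I.SzRee

/-!
# Identification of `E₆(q)`, `²E₆(q)`: the rows of `Sz(u)`, `²G₂(u)` (helper77, statements S3480, S3481)
-/

set_option autoImplicit false
set_option linter.unusedSectionVars false

namespace Cfsg.Agent.R2.Spec.X1.E6.ERSz

open Cfsg Cfsg.Lie
open Cfsg.Agent.R2.Spec.X1.E6 Cfsg.Agent.R2.Spec.X1.E6.ERBase Cfsg.Agent.R2.Spec.X1.E6.ERF4

universe v

theorem not_sq {c k : ℕ} (z : ℕ) (h1 : k ^ 2 < c) (h2 : c < (k + 1) ^ 2) : z ^ 2 ≠ c := by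
  intro h
  rcases Nat.lt_or_ge k z with h3 | h3
  · have := Nat.pow_le_pow_left (show k + 1 ≤ z from h3) 2
    omega
  · have := Nat.pow_le_pow_left h3 2
    omega

/-- **The kill for a difference of size `√n`.** -/
theorem big {D : Dat} (hq : 8 ≤ D.q) {B : ℤ} (hm : (D.m : ℤ) ∣ D.n + B) (hB : B ^ 2 ≤ 13 * D.n) :
    D.d = 1 ∧ (D.n : ℤ) = B ^ 2 - B + 1 := by
  have hq' : (8 : ℤ) ≤ D.q := by exact_mod_cast hq
  obtain ⟨x, hx⟩ : ∃ x : ℤ, x = (D.q : ℤ) ^ 3 := ⟨_, rfl⟩
  have hx64 : 64 * (D.q : ℤ) ≤ x := by rw [hx]; nlinarith [mul_self_nonneg ((D.q : ℤ) - 8)]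
  have hxx : (D.q : ℤ) * D.q * 8 ≤ x := by rw [hx]; nlinarith [mul_self_nonneg (D.q : ℤ)]
  have hmx : (D.m : ℤ) = D.q * x - D.q ^ 2 + 1 := by rw [D.hm, hx]; ring
  have hdn : (D.d : ℤ) * D.n = x ^ 2 + D.ε * x + 1 := by rw [D.hn, hx]; ring
  have hε := eps_le D (x := x) (by linarith)
  have hd1 := d_ge D
  have hd3 := d_le D
  have hBd : 4 * (|B| * D.d) ≤ 25 * x + 25 := by
    by_contra hc
    push Not at hc
    have h1 : (25 * x + 25) * (25 * x + 25) < (4 * (|B| * D.d)) * (4 * (|B| * D.d)) := by nlinarith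
    have h2 : (4 * (|B| * D.d)) * (4 * (|B| * D.d)) = 16 * (B ^ 2 * D.d ^ 2) := by
      have : |B| * |B| = B ^ 2 := by rw [abs_mul_abs_self, sq]
      linear_combination (16 * (D.d : ℤ) ^ 2) * this
    have h3 : B ^ 2 * (D.d : ℤ) ^ 2 ≤ 13 * D.n * D.d ^ 2 := mul_le_mul_of_nonneg_right hB (sq_nonneg _)
    have h4 : 13 * (D.n : ℤ) * D.d ^ 2 = 13 * (D.d * D.n) * D.d := by ring
    have h5 : 13 * ((D.d : ℤ) * D.n) * D.d ≤ 13 * (D.d * D.n) * 3 :=
      mul_le_mul_of_nonneg_left hd3 (by positivity)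
    have h6 : (D.d : ℤ) * D.n ≤ x ^ 2 + x + 1 := by rw [hdn]; linarith
    nlinarith
  have h2 := D.kill (A := 1) (by rw [one_mul]; exact hm) (by
    rw [abs_one, one_mul, ← hx, hmx]
    nlinarith)
  rw [one_mul, ← hx] at h2
  have h3 : D.ε * x = -(B * D.d) := by linarith
  have h4 : x ^ 2 = B ^ 2 * D.d ^ 2 := by
    have h5 := D.eps_sq
    have h6 : (D.ε * x) ^ 2 = x ^ 2 := by linear_combination x ^ 2 * h5
    rw [← h6, h3]
    ring
  rw [h3, h4] at hdn
  have h5 : (D.d : ℤ) * (D.n - B ^ 2 * D.d + B) = 1 := by linear_combination hdn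
  have h6 : D.d = 1 := by
    have : (D.d : ℤ) ∣ 1 := Dvd.intro _ h5
    have : D.d ∣ 1 := by exact_mod_cast this
    exact Nat.dvd_one.1 this
  refine ⟨h6, ?_⟩
  rw [h6] at h5
  push_cast at h5
  linear_combination h5

/-- `q ≥ 8` : `n` is large -/
theorem n_ge {D : Dat} (hq : 8 ≤ D.q) : (87211 : ℤ) ≤ D.n := by
  have hx : (512 : ℤ) ≤ (D.q : ℤ) ^ 3 := by
    have h : 8 ^ 3 ≤ D.q ^ 3 := Nat.pow_le_pow_left hq 3
    exact_mod_cast h
  have hdn := D.hn
  have e : (D.q : ℤ) ^ 6 = ((D.q : ℤ) ^ 3) ^ 2 := by ring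
  rw [e] at hdn
  have h3 : (512 : ℤ) * 512 - 512 + 1 ≤ (D.d : ℤ) * D.n := by
    rw [hdn]
    rcases D.eps with h | h <;> rw [h] <;> nlinarith
  have h4 : (D.d : ℤ) * D.n ≤ 3 * D.n := mul_le_mul_of_nonneg_right (d_le D) (by positivity)
  linarith

theorem mne {D : Dat} {a : ℕ} (hm : D.m ∣ a) : a ≠ D.n := by
  rintro rfl
  have h1 := D.m_ge
  have h2 := D.coprime_mn.eq_one_of_dvd hm
  omega

/-- the numbers of `Sz(2 w²)` -/
theorem num_sz {D : Dat} {w a : ℕ} (hw : 1 ≤ w)
    (hn : D.n + 1 = 2 * w ^ 2 ∨ D.n = 2 * w ^ 2 + 2 * w + 1 ∨ D.n + 2 * w = 2 * w ^ 2 + 1)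
    (ha : a + 1 = 2 * w ^ 2 ∨ a = 2 * w ^ 2 + 2 * w + 1 ∨ a + 2 * w = 2 * w ^ 2 + 1) (hm : D.m ∣ a) : False := by
  have hne := mne hm
  by_cases hq : D.q < 8
  · have h1 : w ^ 2 = (D.n + 1) / 2 ∨ (2 * w + 1) ^ 2 = 2 * D.n - 1 ∨ (2 * w - 1) ^ 2 = 2 * D.n - 1 := by
      rcases hn with h | h | h
      · left; omega
      · right; left
        rw [h]
        have : (2 * w + 1) ^ 2 = 4 * w ^ 2 + 4 * w + 1 := by ring
        omega
      · right; right
        obtain ⟨z, rfl⟩ : ∃ z, w = z + 1 := ⟨w - 1, by omega⟩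
        have e : 2 * (z + 1) - 1 = 2 * z + 1 := by omega
        rw [e]
        have e1 : (2 * z + 1) ^ 2 = 4 * z ^ 2 + 4 * z + 1 := by ring
        have e2 : (z + 1) ^ 2 = z ^ 2 + 2 * z + 1 := by ring
        omega
    rcases tab D hq with h | h | h | h | h | h | h | h | h | h <;> obtain ⟨-, -, -, h4, -, -⟩ := h <;> rw [h4] at h1
    · rcases h1 with h | h | h
      · exact not_sq (c := 37) (k := 6) w (by norm_num) (by norm_num) h
      · exact not_sq (c := 145) (k := 12) _ (by norm_num) (by norm_num) h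
      · exact not_sq (c := 145) (k := 12) _ (by norm_num) (by norm_num) h
    · rcases h1 with h | h | h
      · exact not_sq (c := 10) (k := 3) w (by norm_num) (by norm_num) h
      · exact not_sq (c := 37) (k := 6) _ (by norm_num) (by norm_num) h
      · exact not_sq (c := 37) (k := 6) _ (by norm_num) (by norm_num) h
    · rcases h1 with h | h | h
      · exact not_sq (c := 379) (k := 19) w (by norm_num) (by norm_num) h
      · exact not_sq (c := 1513) (k := 38) _ (by norm_num) (by norm_num) h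
      · exact not_sq (c := 1513) (k := 38) _ (by norm_num) (by norm_num) h
    · rcases h1 with h | h | h
      · exact not_sq (c := 352) (k := 18) w (by norm_num) (by norm_num) h
      · exact not_sq (c := 1405) (k := 37) _ (by norm_num) (by norm_num) h
      · exact not_sq (c := 1405) (k := 37) _ (by norm_num) (by norm_num) h
    · rcases h1 with h | h | h
      · exact not_sq (c := 694) (k := 26) w (by norm_num) (by norm_num) h
      · exact not_sq (c := 2773) (k := 52) _ (by norm_num) (by norm_num) h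
      · exact not_sq (c := 2773) (k := 52) _ (by norm_num) (by norm_num) h
    · rcases h1 with h | h | h
      · exact not_sq (c := 2017) (k := 44) w (by norm_num) (by norm_num) h
      · exact not_sq (c := 8065) (k := 89) _ (by norm_num) (by norm_num) h
      · exact not_sq (c := 8065) (k := 89) _ (by norm_num) (by norm_num) h
    · rcases h1 with h | h | h
      · exact not_sq (c := 7876) (k := 88) w (by norm_num) (by norm_num) h
      · exact not_sq (c := 31501) (k := 177) _ (by norm_num) (by norm_num) h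
      · exact not_sq (c := 31501) (k := 177) _ (by norm_num) (by norm_num) h
    · rcases h1 with h | h | h
      · exact not_sq (c := 2584) (k := 50) w (by norm_num) (by norm_num) h
      · exact not_sq (c := 10333) (k := 101) _ (by norm_num) (by norm_num) h
      · exact not_sq (c := 10333) (k := 101) _ (by norm_num) (by norm_num) h
    · rcases h1 with h | h | h
      · exact not_sq (c := 19666) (k := 140) w (by norm_num) (by norm_num) h
      · exact not_sq (c := 78661) (k := 280) _ (by norm_num) (by norm_num) h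
      · exact not_sq (c := 78661) (k := 280) _ (by norm_num) (by norm_num) h
    · rcases h1 with h | h | h
      · exact not_sq (c := 58654) (k := 242) w (by norm_num) (by norm_num) h
      · exact not_sq (c := 234613) (k := 484) _ (by norm_num) (by norm_num) h
      · exact not_sq (c := 234613) (k := 484) _ (by norm_num) (by norm_num) h
  · push Not at hq
    have hn8 := n_ge hq
    have hw' : (1 : ℤ) ≤ w := by exact_mod_cast hw
    have hwb : (200 : ℤ) ≤ w := by
      by_contra hc
      push Not at hc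
      have h1 : (D.n : ℤ) ≤ 2 * (w : ℤ) ^ 2 + 2 * w + 1 := by
        rcases hn with h | h | h <;> zify at h <;> linarith
      nlinarith
    have hma : (D.m : ℤ) ∣ D.n + ((a : ℤ) - D.n) := by
      rw [add_sub_cancel]
      exact Int.natCast_dvd_natCast.2 hm
    zify at hn ha hne
    rcases hn with hn | hn | hn <;> rcases ha with ha | ha | ha
    · exact hne (by linarith)
    · have e : (a : ℤ) - D.n = 2 * w + 2 := by linarith
      rw [e] at hma
      obtain ⟨-, h1⟩ := big hq hma (by nlinarith)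
      nlinarith
    · have e : (a : ℤ) - D.n = -(2 * w) + 2 := by linarith
      rw [e] at hma
      obtain ⟨-, h1⟩ := big hq hma (by nlinarith)
      nlinarith
    · have e : (a : ℤ) - D.n = -(2 * w) - 2 := by linarith
      rw [e] at hma
      obtain ⟨-, h1⟩ := big hq hma (by nlinarith)
      nlinarith
    · exact hne (by linarith)
    · have e : (a : ℤ) - D.n = -(4 * w) := by linarith
      rw [e] at hma
      obtain ⟨-, h1⟩ := big hq hma (by nlinarith)
      nlinarith
    · have e : (a : ℤ) - D.n = 2 * w - 2 := by linarith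
      rw [e] at hma
      obtain ⟨-, h1⟩ := big hq hma (by nlinarith)
      nlinarith
    · have e : (a : ℤ) - D.n = 4 * w := by linarith
      rw [e] at hma
      obtain ⟨-, h1⟩ := big hq hma (by nlinarith)
      nlinarith
    · exact hne (by linarith)

set_option maxHeartbeats 1000000 in
/-- the numbers of `²G₂(3 w²)` -/
theorem num_ree {D : Dat} {w a : ℕ} (hw : 1 ≤ w)
    (hn : D.n = 3 * w ^ 2 + 3 * w + 1 ∨ D.n + 3 * w = 3 * w ^ 2 + 1)
    (ha : a = 3 * w ^ 2 + 3 * w + 1 ∨ a + 3 * w = 3 * w ^ 2 + 1) (hm : D.m ∣ a) : False := by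
  have hne := mne hm
  by_cases hq : D.q < 8
  · have h1 : 3 * (2 * w + 1) ^ 2 = 4 * D.n - 1 ∨ 3 * (2 * w - 1) ^ 2 = 4 * D.n - 1 := by
      rcases hn with h | h
      · left
        rw [h]
        have : (2 * w + 1) ^ 2 = 4 * w ^ 2 + 4 * w + 1 := by ring
        omega
      · right
        obtain ⟨z, rfl⟩ : ∃ z, w = z + 1 := ⟨w - 1, by omega⟩
        have e : 2 * (z + 1) - 1 = 2 * z + 1 := by omega
        rw [e]
        have e1 : (2 * z + 1) ^ 2 = 4 * z ^ 2 + 4 * z + 1 := by ring
        have e2 : (z + 1) ^ 2 = z ^ 2 + 2 * z + 1 := by ring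
        omega
    rcases tab D hq with h | h | h | h | h | h | h | h | h | h <;> obtain ⟨-, -, -, h4, h5, -⟩ := h <;> rw [h4] at h1 hn hne <;>
      rw [h5] at hm
    · rcases h1 with h | h
      · exact not_sq (c := 97) (k := 9) (2 * w + 1) (by norm_num) (by norm_num) (by omega)
      · exact not_sq (c := 97) (k := 9) (2 * w - 1) (by norm_num) (by norm_num) (by omega)
    · have hw4 : w = 2 ∨ w = 3 := by
        rcases h1 with h | h
        · have h6 : (2 * w + 1) ^ 2 = 5 ^ 2 := by omega
          have := Nat.pow_left_injective two_ne_zero h6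
          omega
        · have h6 : (2 * w - 1) ^ 2 = 5 ^ 2 := by omega
          have := Nat.pow_left_injective two_ne_zero h6
          omega
      clear h1
      rcases hw4 with rfl | rfl <;> omega
    · rcases h1 with h | h
      · exact not_sq (c := 1009) (k := 31) (2 * w + 1) (by norm_num) (by norm_num) (by omega)
      · exact not_sq (c := 1009) (k := 31) (2 * w - 1) (by norm_num) (by norm_num) (by omega)
    · rcases h1 with h | h
      · exact not_sq (c := 937) (k := 30) (2 * w + 1) (by norm_num) (by norm_num) (by omega)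
      · exact not_sq (c := 937) (k := 30) (2 * w - 1) (by norm_num) (by norm_num) (by omega)
    · have hw4 : w = 21 ∨ w = 22 := by
        rcases h1 with h | h
        · have h6 : (2 * w + 1) ^ 2 = 43 ^ 2 := by omega
          have := Nat.pow_left_injective two_ne_zero h6
          omega
        · have h6 : (2 * w - 1) ^ 2 = 43 ^ 2 := by omega
          have := Nat.pow_left_injective two_ne_zero h6
          omega
      clear h1
      rcases hw4 with rfl | rfl <;> omega
    · rcases h1 with h | h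
      · exact not_sq (c := 5377) (k := 73) (2 * w + 1) (by norm_num) (by norm_num) (by omega)
      · exact not_sq (c := 5377) (k := 73) (2 * w - 1) (by norm_num) (by norm_num) (by omega)
    · rcases h1 with h | h
      · exact not_sq (c := 21001) (k := 144) (2 * w + 1) (by norm_num) (by norm_num) (by omega)
      · exact not_sq (c := 21001) (k := 144) (2 * w - 1) (by norm_num) (by norm_num) (by omega)
    · have hw4 : w = 41 ∨ w = 42 := by
        rcases h1 with h | h
        · have h6 : (2 * w + 1) ^ 2 = 83 ^ 2 := by omega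
          have := Nat.pow_left_injective two_ne_zero h6
          omega
        · have h6 : (2 * w - 1) ^ 2 = 83 ^ 2 := by omega
          have := Nat.pow_left_injective two_ne_zero h6
          omega
      clear h1
      rcases hw4 with rfl | rfl <;> omega
    · have hw4 : w = 114 ∨ w = 115 := by
        rcases h1 with h | h
        · have h6 : (2 * w + 1) ^ 2 = 229 ^ 2 := by omega
          have := Nat.pow_left_injective two_ne_zero h6
          omega
        · have h6 : (2 * w - 1) ^ 2 = 229 ^ 2 := by omega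
          have := Nat.pow_left_injective two_ne_zero h6
          omega
      clear h1
      rcases hw4 with rfl | rfl <;> omega
    · rcases h1 with h | h
      · exact not_sq (c := 156409) (k := 395) (2 * w + 1) (by norm_num) (by norm_num) (by omega)
      · exact not_sq (c := 156409) (k := 395) (2 * w - 1) (by norm_num) (by norm_num) (by omega)
  · push Not at hq
    have hn8 := n_ge hq
    have hw' : (1 : ℤ) ≤ w := by exact_mod_cast hw
    have hwb : (100 : ℤ) ≤ w := by
      by_contra hc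
      push Not at hc
      have h1 : (D.n : ℤ) ≤ 3 * (w : ℤ) ^ 2 + 3 * w + 1 := by
        rcases hn with h | h <;> zify at h <;> linarith
      nlinarith
    have hma : (D.m : ℤ) ∣ D.n + ((a : ℤ) - D.n) := by
      rw [add_sub_cancel]
      exact Int.natCast_dvd_natCast.2 hm
    zify at hn ha hne
    rcases hn with hn | hn <;> rcases ha with ha | ha
    · exact hne (by linarith)
    · have e : (a : ℤ) - D.n = -(6 * w) := by linarith
      rw [e] at hma
      obtain ⟨-, h1⟩ := big hq hma (by nlinarith)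
      nlinarith
    · have e : (a : ℤ) - D.n = 6 * w := by linarith
      rw [e] at hma
      obtain ⟨-, h1⟩ := big hq hma (by nlinarith)
      nlinarith
    · exact hne (by linarith)

/-- **`Sz(u)`** -/
theorem row_sz {D : Dat} {F : Type v} [Field F] [Fintype F] {m : ℕ} (hm : 1 ≤ m)
    (hF : Fintype.card F = 2 ^ (2 * m + 1)) (h : Sit D ↥(Lie.Sz F (2 ^ (m + 1)))) : False := by
  have hn := H72.F4I.sz_row hm hF (isoN h)
  obtain ⟨e⟩ := Cfsg.Agent.OddCyclic.ClaimC.SzIso.iso hm hF
  have h := h.congr e.symm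
  have hfin : Finite ↥(Cfsg.Sz F m) := inferInstance
  obtain ⟨x, hx⟩ := h.om
  have hb := D.m_ge
  have hodd : Odd D.m := by
    rw [← Nat.not_even_iff_odd, even_iff_two_dvd]
    exact D.m_odd
  have hx1 : x ≠ 1 := by
    rintro rfl
    rw [orderOf_one] at hx
    omega
  obtain ⟨U, ⟨hU, hxU⟩, -⟩ := Cfsg.Agent.S2238.result hm hF x hx1
  have hdU : D.m ∣ Nat.card ↥U := by
    rw [← hx, ← Subgroup.orderOf_mk _ hxU]
    exact orderOf_dvd_natCard _
  rcases hU with ⟨P, rfl⟩ | ⟨-, hN⟩
  · obtain ⟨k, hk⟩ := IsPGroup.iff_card.1 P.isPGroup'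
    rw [hk] at hdU
    have h1 : Nat.Coprime D.m (2 ^ k) := (Nat.coprime_two_right.2 hodd).pow_right k
    have h2 := h1.eq_one_of_dvd hdU
    omega
  · have e1 : 2 ^ (2 * m + 1) = 2 * (2 ^ m) ^ 2 := by ring
    have e2 : 2 ^ (m + 1) = 2 * 2 ^ m := by ring
    have hw : 1 ≤ 2 ^ m := Nat.one_le_two_pow
    rw [e1, e2] at hN hn
    have hww : 2 ^ m ≤ (2 ^ m) ^ 2 := Nat.le_self_pow two_ne_zero _
    refine num_sz hw hn ?_ hdU
    simp only [Set.mem_insert_iff, Set.mem_singleton_iff] at hN
    generalize 2 ^ m = w at *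
    omega

/-- **`²G₂(u)`** -/
theorem row_ree {D : Dat} {K : Type v} [Field K] [Fintype K] {m : ℕ} (hm : 1 ≤ m)
    (hF : Fintype.card K = 3 ^ (2 * m + 1)) (h : Sit D ↥(Lie.twistedG2 K (3 ^ m))) : False := by
  have hfin : Finite ↥(Cfsg.Lie.twistedG2 K (3 ^ m)) := inferInstance
  have hn := H72.F4I.ree_row hm hF (isoN h)
  have hb := D.m_ge
  have hS := Cfsg.Agent.S1159.result hm hF
  obtain ⟨t, ht, htm, -, -⟩ := h.exists_prime_m
  have hu4 : 3 ^ (2 * m + 1) % 4 = 3 := by
    rw [pow_succ, pow_mul, Nat.mul_mod, Nat.pow_mod]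
    norm_num
  have key : ∀ N : ℕ, 2 ∣ N → (∃ g : ↥(Cfsg.Lie.twistedG2 K (3 ^ m)), orderOf g = N) → D.m ∣ N → False :=
    fun N h2 hN hd => D.e_odd (h2.trans (h.dvd_e hN ht (htm.trans hd) htm))
  have e1 : 3 ^ (2 * m + 1) = 3 * (3 ^ m) ^ 2 := by ring
  have e2 : 3 ^ (m + 1) = 3 * 3 ^ m := by ring
  have hw : 1 ≤ 3 ^ m := Nat.one_le_pow _ _ (by norm_num)
  have hww : 3 ^ m ≤ (3 ^ m) ^ 2 := Nat.le_self_pow two_ne_zero _
  rcases (hS _).1 h.om with h1 | h1 | h1 | h1 | h1 | h1
  · have := Nat.le_of_dvd (by norm_num) h1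
    omega
  · have := Nat.le_of_dvd (by norm_num) h1
    omega
  · exact key _ (by omega) ((hS _).2 (Or.inr (Or.inr (Or.inl dvd_rfl)))) h1
  · exact key _ (by omega) ((hS _).2 (Or.inr (Or.inr (Or.inr (Or.inl dvd_rfl))))) h1
  · rw [e1, e2] at h1 hn
    exact num_ree hw (by omega) (Or.inr (by omega)) h1
  · rw [e1, e2] at h1 hn
    exact num_ree hw (by omega) (Or.inl (by omega)) h1

end Cfsg.Agent.R2.Spec.X1.E6.ERSz
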