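import Cfsg.Agent.H366.X.Row
import Cfsg.Agent.R2.Spec.X1.E6.Sit

/-!
# `E₆(q)`, `²E₆(q)` are recognized by their element orders (helper414, S3480, S3481): interface

* `Frm6` : the frame of a group with the element orders of `M`, `Sit D M` (proved in `H414/E6/Frame.lean`, huge closure;
  take it as a hypothesis);
* `rcg` : the assembly from identification, covers and automorphisms.
-/

set_option autoImplicit false

namespace Cfsg.Agent.R2.Spec.X1.E6

open Cfsg Cfsg.Agent.H366.X Cfsg.Agent.H373.Recog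

universe u v

/-- the frame: `D` the numbers, `M` a group with `Sit D M` -/
def Frm6 : Prop := ∀ (D : Dat) (M : Type v) [Group M] [Finite M], Sit D M → (∃ x : M, orderOf x = 2) →
  ∀ (G : Type u) [Group G] [Finite G], Set.range (orderOf : G → ℕ) = Set.range (orderOf : M → ℕ) →
  ∃ (K : Subgroup G) (_ : K.Normal), Group.IsSolvable K ∧ ∃ (S : Subgroup (G ⧸ K)) (_ : S.Normal),
    IsSimpleGroup S ∧ ¬ IsMulCommutative S ∧ Subgroup.centralizer (S : Set (G ⧸ K)) = ⊥ ∧ Sit D S ∧
    ∀ x : S, ∃ y : M, orderOf y = orderOf x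

/-- **Assembly.** -/
theorem rcg (hF : Frm6.{u, v}) {D : Dat} {M : Type v} [Group M] [Finite M] (hM : Sit D M)
    (h2 : ∃ x : M, orderOf x = 2)
    (hid : ∀ (S : Type u) [Group S] [Finite S], IsSimpleGroup S → ¬ IsMulCommutative S →
      (∀ x : S, ∃ y : M, orderOf y = orderOf x) → Sit D S → Nonempty (S ≃* M))
    (hcov : Cov.{v, u} M) (haut : AutOk M) : Rcg.{u, v} M := by
  intro G _ _ hω
  obtain ⟨K, hKn, hK, S, hSn, hS, hSna, hSc, hSD, hSo⟩ := hF D M hM h2 G hω
  obtain ⟨e⟩ := hid S hS hSna hSo hSD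
  exact recognize hω K hK S hSc e hcov haut

end Cfsg.Agent.R2.Spec.X1.E6
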