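import Cfsg.Agent.R2.Spec.X1.Gen
import Cfsg.Agent.R2.Spec.X1.E6.I9.Ident
import Cfsg.Agent.R2.Spec.X1.E6.I4.SitE6
import Cfsg.Agent.R2.Spec.X1.E6.Row
import Cfsg.Agent.H902.Iso

/-!
# `E₆(q)`, `²E₆(q)`, all `q` (helper13, S3435, box X1)
-/

set_option autoImplicit false
set_option linter.unusedSectionVars false

namespace Cfsg.Agent.R2.Spec.X1.E6

open Cfsg Cfsg.Lie Cfsg.Agent.H366.X Cfsg.Agent.R2.Spec.X1.E6.I4

universe u v

/-- the numbers -/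
theorem exists_dat {q : ℕ} (hq : IsPrimePow q) {ε : ℤ} (hε : ε = 1 ∨ ε = -1) : ∃ D : Dat, D.ε = ε ∧ D.q = q := by
  have hq2 : (2 : ℤ) ≤ q := by exact_mod_cast hq.two_le
  have hε2 : ε * ε = 1 := by rcases hε with h | h <;> rw [h] <;> norm_num
  have hN : 0 ≤ (q : ℤ) ^ 6 + ε * q ^ 3 + 1 := by
    have h1 : (1 : ℤ) ≤ (q : ℤ) ^ 3 := one_le_pow₀ (by omega)
    have h2 : (q : ℤ) ^ 6 = (q : ℤ) ^ 3 * (q : ℤ) ^ 3 := by ring
    rcases hε with h | h <;> rw [h] <;> nlinarith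
  have hM : 0 ≤ (q : ℤ) ^ 4 - q ^ 2 + 1 := by nlinarith [sq_nonneg ((q : ℤ) ^ 2 - 1), sq_nonneg (q : ℤ)]
  have hE : 0 ≤ (q : ℤ) ^ 2 + ε * q + 1 := by
    rcases hε with h | h <;> rw [h] <;> nlinarith
  obtain ⟨m, hm⟩ := Int.eq_ofNat_of_zero_le hM
  obtain ⟨e, he⟩ := Int.eq_ofNat_of_zero_le (mul_nonneg hE hM)
  obtain ⟨N, hN'⟩ := Int.eq_ofNat_of_zero_le hN
  by_cases h : (3 : ℤ) ∣ (q : ℤ) - ε
  · have h4 : (3 : ℤ) ∣ (q : ℤ) ^ 6 + ε * q ^ 3 + 1 := by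
      obtain ⟨k, hk⟩ := h
      have e1 : (q : ℤ) = 3 * k + ε := by omega
      have e2 : ε ^ 2 = 1 := by rw [sq]; exact hε2
      have e3 : ε ^ 4 = 1 := by rw [show 4 = 2 * 2 by norm_num, pow_mul, e2, one_pow]
      have e4 : ε ^ 6 = 1 := by rw [show 6 = 2 * 3 by norm_num, pow_mul, e2, one_pow]
      have e5 : (q : ℤ) ^ 6 + ε * q ^ 3 + 1 =
        3 * (k * (243 * k ^ 5 + 486 * k ^ 4 * ε + 405 * k ^ 3 * ε ^ 2 + 180 * k ^ 2 * ε ^ 3 + 45 * k * ε ^ 4 +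
          6 * ε ^ 5 + ε * (9 * k ^ 2 + 9 * k * ε + 3 * ε ^ 2))) + (ε ^ 6 + ε ^ 4 + 1) := by
        rw [e1]; ring
      rw [e5, e3, e4]
      exact dvd_add (dvd_mul_right _ _) (by norm_num)
    obtain ⟨n, hn⟩ : 3 ∣ N := by
      rw [hN'] at h4
      exact_mod_cast h4
    exact ⟨{
      ε := ε
      q := q
      d := 3
      n := n
      m := m
      e := e
      pp := hq
      eps := hε
      hd := Or.inr rfl
      hd3 := ⟨fun _ => h, fun _ => rfl⟩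
      hn := by rw [hN', hn]; push_cast; ring
      hm := hm.symm
      he := by rw [← hm, he] }, rfl, rfl⟩
  · exact ⟨{
      ε := ε
      q := q
      d := 1
      n := N
      m := m
      e := e
      pp := hq
      eps := hε
      hd := Or.inl rfl
      hd3 := ⟨fun h1 => absurd h1 (by norm_num), fun h1 => absurd h1 h⟩
      hn := by rw [hN']; push_cast; ring
      hm := hm.symm
      he := by rw [← hm, he] }, rfl, rfl⟩

theorem two_dvd_of {N a c : ℕ} (h : Nat.gcd 3 a * c = N) (hN : 2 ∣ N) : 2 ∣ c := by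
  have h2 : 2 ∣ Nat.gcd 3 a * c := by rw [h]; exact hN
  rcases (Nat.Prime.dvd_mul Nat.prime_two).1 h2 with h3 | h3
  · have := (Nat.prime_dvd_prime_iff_eq Nat.prime_two Nat.prime_three).1 (h3.trans (Nat.gcd_dvd_left 3 a))
    omega
  · exact h3

theorem two_dvd_pow_mul {q b : ℕ} : 2 ∣ q ^ 36 * (q ^ 2 - 1) * b := by
  rcases Nat.even_or_odd q with h | h
  · exact ((h.two_dvd.trans (dvd_pow_self q (by norm_num))).mul_right _).mul_right _
  · have h1 : Odd (q ^ 2) := h.pow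
    have h2 : 2 ∣ q ^ 2 - 1 := (Nat.Odd.sub_odd h1 odd_one).two_dvd
    exact (h2.mul_left _).mul_right _

/-- there is an involution in `E₆(q)` -/
theorem two_E6 {F : Type v} [Field F] [Fintype F] : ∃ x : ↥(chevE6.group F), orderOf x = 2 := by
  have : Fact (Nat.Prime 2) := ⟨Nat.prime_two⟩
  apply exists_prime_orderOf_dvd_card' 2
  refine two_dvd_of (a := Fintype.card F - 1) (S1063.result rfl) ?_
  have := two_dvd_pow_mul (q := Fintype.card F) (b := (Fintype.card F ^ 5 - 1) * (Fintype.card F ^ 6 - 1) *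
    (Fintype.card F ^ 8 - 1) * (Fintype.card F ^ 9 - 1) * (Fintype.card F ^ 12 - 1))
  refine this.trans (dvd_of_eq ?_)
  ring

/-- there is an involution in `²E₆(q)` -/
theorem two_tE6 {K : Type v} [Field K] [Fintype K] {q : ℕ} (hq : IsPrimePow q) (hK : Fintype.card K = q ^ 2) :
    ∃ x : ↥(twistedE6 K q), orderOf x = 2 := by
  have : Fact (Nat.Prime 2) := ⟨Nat.prime_two⟩
  apply exists_prime_orderOf_dvd_card' 2
  refine two_dvd_of (a := q + 1) (S1066.result hq hK) ?_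
  have := two_dvd_pow_mul (q := q) (b := (q ^ 5 + 1) * (q ^ 6 - 1) *
    (q ^ 8 - 1) * (q ^ 9 + 1) * (q ^ 12 - 1))
  refine this.trans (dvd_of_eq ?_)
  ring

/-- **`E₆(q)`.** -/
theorem preQR_E6 (hcl : Cl.{u}) (hF6 : Frm6.{u, v}) {F : Type v} [Field F] [Fintype F] :
    PreQR.{u, v} ↥(chevE6.group F) := by
  intro G _ _ hω
  obtain ⟨D, he, hD⟩ := exists_dat (FiniteField.isPrimePow_card F) (ε := 1) (Or.inl rfl)
  have hsit := sit_E6 (F := F) he hD.symm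
  obtain ⟨K, hKn, hK, S, hSn, hS, hSna, hSc, hSD, hSo⟩ := hF6 D _ hsit two_E6 G hω
  refine ⟨K, hKn, hK, S, hSn, ?_⟩
  rcases I9.ident hSna (hcl ↥S) hSD with ⟨-, F', _, _, hF', ⟨e⟩⟩ | ⟨h2, -⟩
  · obtain ⟨e'⟩ := H902.Iso.chev_congr (FiniteField.ringEquivOfCardEq (hF'.trans hD)) chevE6
    exact ⟨e.trans e'⟩
  · rw [he] at h2
    norm_num at h2

/-- **`²E₆(q)`.** -/
theorem preQR_tE6 (hcl : Cl.{u}) (hF6 : Frm6.{u, v}) {K : Type v} [Field K] [Fintype K] {q : ℕ} (hqp : IsPrimePow q)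
    (hK : Fintype.card K = q ^ 2) : PreQR.{u, v} ↥(twistedE6 K q) := by
  intro G _ _ hω
  obtain ⟨D, he, rfl⟩ := exists_dat hqp (ε := -1) (Or.inr rfl)
  have hsit := sit_tE6 (K := K) he hK
  obtain ⟨N, hKn, hN, S, hSn, hS, hSna, hSc, hSD, hSo⟩ := hF6 D _ hsit (two_tE6 hqp hK) G hω
  refine ⟨N, hKn, hN, S, hSn, ?_⟩
  rcases I9.ident hSna (hcl ↥S) hSD with ⟨h2, -⟩ | ⟨-, K', _, _, hK', ⟨e⟩⟩
  · rw [he] at h2
    norm_num at h2
  · obtain ⟨e'⟩ := H902.Iso.gen_congr (FiniteField.ringEquivOfCardEq (hK'.trans hK.symm)) chevE6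
      (H902.Iso.e6Words_map (FiniteField.ringEquivOfCardEq (hK'.trans hK.symm)) D.q)
    exact ⟨e.trans e'⟩

end Cfsg.Agent.R2.Spec.X1.E6
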