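import Cfsg.Agent.R2.Spec.X1.E6.Row
import Cfsg.Agent.H366.X.Frame

/-!
# The frame of a group with the element orders of `E₆(q)` or `²E₆(q)` (helper367, S3480, S3481)

`frame6` : a finite group with the element orders of `M`, `Sit D M`, has a solvable radical `K` and `G / K` a simple socle
`S` with `Sit D S`.
-/

set_option autoImplicit false
set_option linter.unusedSectionVars false

namespace Cfsg.Agent.R2.Spec.X1.E6.Fr

open Cfsg Cfsg.Agent.R2.Spec.X1.E6 Cfsg.Agent.H414.Vasiliev Cfsg.Agent.H414.Comp Subgroup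

universe u v

/-! ### numbers -/

section Num

variable (D : Dat)

/-- for `q` even `(q ^ 4 + 1) (q ^ 2 - 1)` is odd -/
theorem odd8 (h2 : 2 ∣ D.q) : ¬ 2 ∣ (D.q ^ 4 + 1) * (D.q ^ 2 - 1) := by
  obtain ⟨k, hk⟩ := h2
  have hk1 : 1 ≤ k := by have := D.two_le; omega
  intro h
  rcases (Nat.prime_two.dvd_mul).1 h with h1 | h1
  · have h3 : D.q ^ 4 = 2 * (k * D.q ^ 3) := by
      rw [show D.q ^ 4 = D.q * D.q ^ 3 by ring]
      nth_rewrite 1 [hk]
      ring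
    omega
  · have h3 : D.q ^ 2 = 2 * (k * D.q) := by
      rw [pow_two]
      nth_rewrite 1 [hk]
      ring
    have h4 : 1 ≤ k * D.q := Nat.mul_pos hk1 (by have := D.two_le; omega)
    omega

/-- a prime does not divide both `q ^ 4 + 1` and `n` -/
theorem not_n_of_8 {t : ℕ} (ht : t.Prime) (h8 : t ∣ D.q ^ 4 + 1) : ¬ t ∣ D.n := by
  intro hn
  have h2 : t ≠ 2 := by rintro rfl; exact D.n_odd hn
  have := Fact.mk ht
  have hz : ((D.q : ZMod t)) ^ 6 + (D.ε : ZMod t) * (D.q : ZMod t) ^ 3 + 1 = 0 := by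
    have h4 : ((D.n : ℕ) : ZMod t) = 0 := (ZMod.natCast_eq_zero_iff _ _).2 hn
    have h5 : (((D.d : ℤ) * D.n : ℤ) : ZMod t) = (((D.q : ℤ) ^ 6 + D.ε * D.q ^ 3 + 1 : ℤ) : ZMod t) := by rw [D.hn]
    push_cast at h5
    rw [h4, mul_zero] at h5
    exact h5.symm
  have he : (D.ε : ZMod t) * (D.ε : ZMod t) = 1 := by
    have := D.eps_sq
    exact_mod_cast congrArg (Int.cast : ℤ → ZMod t) this
  have h8' : (D.q : ZMod t) ^ 4 = -1 := by
    have h4 : ((D.q ^ 4 + 1 : ℕ) : ZMod t) = 0 := (ZMod.natCast_eq_zero_iff _ _).2 h8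
    push_cast at h4
    exact eq_neg_of_add_eq_zero_left h4
  set a : ZMod t := (D.q : ZMod t)
  set ε : ZMod t := (D.ε : ZMod t)
  have h18 : a ^ 18 = 1 := by
    have h9 : a ^ 9 = ε := by
      linear_combination (a ^ 3 - ε) * hz + (a ^ 3) * he
    have : a ^ 18 = a ^ 9 * a ^ 9 := by ring
    rw [this, h9, he]
  have h16 : a ^ 16 = 1 := by
    have : a ^ 16 = (a ^ 4) ^ 4 := by ring
    rw [this, h8']
    ring
  have ha2 : a ^ 2 = 1 := by
    have : a ^ 18 = a ^ 16 * a ^ 2 := by ring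
    rw [this, h16, one_mul] at h18
    exact h18
  have h4 : a ^ 4 = 1 := by
    have : a ^ 4 = (a ^ 2) ^ 2 := by ring
    rw [this, ha2, one_pow]
  rw [h4] at h8'
  have h5 : (2 : ZMod t) = 0 := by linear_combination h8'
  have h6 : ((2 : ℕ) : ZMod t) = 0 := by exact_mod_cast h5
  rw [ZMod.natCast_eq_zero_iff] at h6
  exact h2 ((Nat.prime_dvd_prime_iff_eq ht Nat.prime_two).1 h6)

end Num

/-! ### transport -/

theorem sit_of_spec {D : Dat} {G : Type u} [Group G] [Finite G] {M : Type v} [Group M] [Finite M]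
    (hω : Set.range (orderOf : G → ℕ) = Set.range (orderOf : M → ℕ)) (h : Sit D M) : Sit D G := by
  have up : ∀ {n : ℕ}, (∃ x : M, orderOf x = n) → ∃ x : G, orderOf x = n := by
    intro n hn
    have h1 : n ∈ Set.range (orderOf : M → ℕ) := hn
    rw [← hω] at h1
    exact h1
  have dn : ∀ x : G, ∃ y : M, orderOf y = orderOf x := by
    intro x
    have h1 : orderOf x ∈ Set.range (orderOf : M → ℕ) := hω ▸ ⟨x, rfl⟩
    exact h1
  refine ⟨up h.on, ?_, up h.om, ?_, fun h2 => up (h.o8 h2), ?_, ?_⟩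
  · intro x s hs h1 h2
    obtain ⟨y, hy⟩ := dn x
    rw [← hy] at h2 ⊢
    exact h.iso y s hs h1 h2
  · intro x s hs h1 h2
    obtain ⟨y, hy⟩ := dn x
    rw [← hy] at h2 ⊢
    exact h.tor y s hs h1 h2
  · intro h0 x s hs h1 h2
    obtain ⟨y, hy⟩ := dn x
    rw [← hy] at h2 ⊢
    exact h.tor8 h0 y s hs h1 h2
  · intro r hr hd
    have := Fact.mk hr
    obtain ⟨x, hx⟩ := exists_prime_orderOf_dvd_card' (G := G) r hd
    obtain ⟨y, hy⟩ := dn x
    refine h.prm r hr ?_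
    rw [← hx, ← hy]
    exact orderOf_dvd_natCard y

/-! ### cocliques -/

/-- the coclique `{2, p, s}` from an isolated `n` and a number `s` of a second kind -/
theorem coc {D : Dat} {G : Type u} [Group G] [Finite G] (h : Sit D G) (h0 : ∃ x : G, orderOf x = 2) {p s : ℕ}
    (hp : p.Prime) (hs : s.Prime) (hpn : p ∣ D.n) (hsG : s ∣ Nat.card G) (hsn : ¬ s ∣ D.n)
    (hs2 : ¬ ∃ x : G, orderOf x = s * 2) (hs2' : s ≠ 2) : Coc G {2, p, s} ∧ p ≠ 2 ∧ p ≠ s := by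
  have hp2 : p ≠ 2 := by rintro rfl; exact D.n_odd hpn
  have hps : p ≠ s := by rintro rfl; exact hsn hpn
  have k1 : ∀ b : ℕ, ¬ b ∣ D.n → ¬ ∃ x : G, orderOf x = p * b := by
    rintro b hb ⟨x, hx⟩
    exact hb ((Dvd.intro_left p hx.symm).trans (h.iso x p hp hpn (hx ▸ dvd_mul_right p b)))
  obtain ⟨x0, hx0⟩ := h0
  refine ⟨⟨?_, ?_⟩, hp2, hps⟩
  · intro r hr
    simp only [Finset.mem_insert, Finset.mem_singleton] at hr
    rcases hr with rfl | rfl | rfl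
    · exact ⟨Nat.prime_two, hx0 ▸ orderOf_dvd_natCard x0⟩
    · exact ⟨hp, hpn.trans h.n_dvd_card⟩
    · exact ⟨hs, hsG⟩
  · intro a ha b hb hab
    simp only [Finset.mem_insert, Finset.mem_singleton] at ha hb
    rcases ha with rfl | rfl | rfl <;> rcases hb with rfl | rfl | rfl
    · exact absurd rfl hab
    · rw [mul_comm]; exact k1 _ D.n_odd
    · rwa [mul_comm]
    · exact k1 _ D.n_odd
    · exact absurd rfl hab
    · exact k1 _ hsn
    · exact hs2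
    · rw [mul_comm]; exact k1 _ hsn
    · exact absurd rfl hab

/-- primes of `m` -/
theorem coc_m {D : Dat} {G : Type u} [Group G] [Finite G] (h : Sit D G) (h0 : ∃ x : G, orderOf x = 2) {p s : ℕ}
    (hp : p.Prime) (hs : s.Prime) (hpn : p ∣ D.n) (hsm : s ∣ D.m) :
    Coc G {2, p, s} ∧ p ≠ 2 ∧ s ≠ 2 ∧ p ≠ s := by
  have hs2 : s ≠ 2 := by rintro rfl; exact D.m_odd hsm
  obtain ⟨h1, h2, h3⟩ := coc h h0 hp hs hpn (hsm.trans h.m_dvd_card)
    (fun hd => hs.one_lt.ne' (Nat.dvd_one.1 (D.coprime_mn ▸ Nat.dvd_gcd hsm hd)))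
    (by rw [mul_comm]; exact h.not_two_m hs hsm) hs2
  exact ⟨h1, h2, hs2, h3⟩

/-- primes of `q ^ 4 + 1` -/
theorem coc_8 {D : Dat} {G : Type u} [Group G] [Finite G] (h : Sit D G) (h0 : ∃ x : G, orderOf x = 2)
    (hq : 2 ∣ D.q) {p s : ℕ} (hp : p.Prime) (hs : s.Prime) (hpn : p ∣ D.n) (hs8 : s ∣ D.q ^ 4 + 1) :
    Coc G {2, p, s} ∧ p ≠ 2 ∧ s ≠ 2 ∧ p ≠ s := by
  have hs2 : s ≠ 2 := by rintro rfl; exact odd8 D hq (hs8.trans (dvd_mul_right _ _))
  have hG : s ∣ Nat.card G := by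
    obtain ⟨x, hx⟩ := h.o8 hq
    exact hs8.trans (hx ▸ orderOf_dvd_natCard x)
  obtain ⟨h1, h2, h3⟩ := coc h h0 hp hs hpn hG (not_n_of_8 D hs hs8) (by
    rintro ⟨x, hx⟩
    exact odd8 D hq ((Dvd.intro_left s hx.symm).trans (h.tor8 hq x s hs hs8 (hx ▸ dvd_mul_right s 2)))) hs2
  exact ⟨h1, h2, hs2, h3⟩

/-! ### the frame -/

/-- **The frame.** -/
theorem frame6 : Cfsg.Agent.R2.Spec.X1.E6.Frm6.{u, v} := by
  intro D M _ _ hM h2M G _ _ hω
  classical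
  have h : Sit D G := sit_of_spec hω hM
  have h0 : ∃ x : G, orderOf x = 2 := by
    have h1 : (2 : ℕ) ∈ Set.range (orderOf : M → ℕ) := h2M
    rw [← hω] at h1
    exact h1
  have hG : ∀ x : G, ∃ y : M, orderOf y = orderOf x := by
    intro x
    have h1 : orderOf x ∈ Set.range (orderOf : M → ℕ) := hω ▸ ⟨x, rfl⟩
    exact h1
  obtain ⟨p₁, hp₁, hpn₁, -, -⟩ := h.exists_prime_n
  obtain ⟨p₂, hp₂, hpm₂, -, -⟩ := h.exists_prime_m
  obtain ⟨hC, hp₁2, hp₂2, hp₁₂⟩ := coc_m h h0 hp₁ hp₂ hpn₁ hpm₂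
  have hns : ¬ Group.IsSolvable G := by
    intro hs
    have hs' : Group.IsSolvable ↥(⊤ : Subgroup G) :=
      Group.isSolvable_of_isSolvable_injective (Subgroup.subtype_injective _)
    refine Cfsg.Agent.H395.Coclique.coclique Nat.prime_two hp₁ hp₂ hp₁2.symm hp₂2.symm hp₁₂
      (hC.2 2 (by simp) p₁ (by simp) hp₁2.symm) (hC.2 2 (by simp) p₂ (by simp) hp₂2.symm)
      (hC.2 p₁ (by simp) p₂ (by simp) hp₁₂) ⊤ hs' ?_ ?_ (hC.1 p₂ (by simp)).2
    · rw [Subgroup.card_top]; exact (hC.1 2 (by simp)).2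
    · rw [Subgroup.card_top]; exact (hC.1 p₁ (by simp)).2
  obtain ⟨K, hKn, hK, hKmax⟩ := H366.X.exists_rad G
  obtain ⟨S, hS, hSn, hSc, -⟩ := Cfsg.Agent.H414.Vasiliev.main hns
    ⟨p₁, hp₁, hp₁2, (hC.1 p₁ (by simp)).2, hC.2 2 (by simp) p₁ (by simp) hp₁2.symm⟩ K hK hKmax
  have hlift : ∀ y : ↥S, ∃ g : G, orderOf g = orderOf y := by
    intro y
    obtain ⟨g, hg⟩ := Cfsg.Agent.H373.Recog.exists_lift K (y : G ⧸ K)
    rw [Subgroup.orderOf_coe] at hg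
    exact ⟨g, hg⟩
  -- elements of order prime to the bad part
  have hel : ∀ {N : ℕ}, (∃ x : G, orderOf x = N) → (∀ p : ℕ, p.Prime → p ∣ N → ¬ p ∣ Nat.card ↥K ∧ ¬ p ∣ S.index) →
      ∃ s : ↥S, orderOf s = N := by
    rintro N ⟨x, hx⟩ hbad
    obtain ⟨s, hs⟩ := H366.X.exists_socle K S (x := x)
      (by rw [hx]; exact Nat.coprime_of_dvd fun p hp h4 h5 => (hbad p hp h4).1 h5)
      (by rw [hx]; exact Nat.coprime_of_dvd fun p hp h4 h5 => (hbad p hp h4).2 h5)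
    exact ⟨s, by rw [hs, hx]⟩
  have hswap : ∀ {a b : ℕ}, Coc G {2, a, b} → Coc G {2, b, a} := by
    intro a b hab
    rwa [show ({2, b, a} : Finset ℕ) = {2, a, b} by rw [Finset.pair_comm]]
  refine ⟨K, hKn, hK, S, hSn, hS.simple, ?_, hSc, ⟨?_, ?_, ?_, ?_, ?_, ?_, ?_⟩, ?_⟩
  · obtain ⟨a, b, hab⟩ := hS.noncomm
    exact fun h => hab (h.is_comm.comm a b)
  · refine hel h.on fun p hp hpn => ?_
    obtain ⟨hC', h2', h3', h4'⟩ := coc_m h h0 hp hp₂ hpn hpm₂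
    exact Cfsg.Agent.H321.SpecEven.not_dvd K hK S hS hSc h2' h3' h4' hC'
  · intro y r hr hrn hd
    obtain ⟨g, hg⟩ := hlift y
    rw [← hg] at hd ⊢
    exact h.iso g r hr hrn hd
  · refine hel h.om fun p hp hpm => ?_
    obtain ⟨hC', h2', h3', h4'⟩ := coc_m h h0 hp₁ hp hpn₁ hpm
    exact Cfsg.Agent.H321.SpecEven.not_dvd K hK S hS hSc h3' h2' h4'.symm (hswap hC')
  · intro y r hr hrn hd
    obtain ⟨g, hg⟩ := hlift y
    rw [← hg] at hd ⊢
    exact h.tor g r hr hrn hd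
  · intro hq
    refine hel (h.o8 hq) fun p hp hp8 => ?_
    obtain ⟨hC', h2', h3', h4'⟩ := coc_8 h h0 hq hp₁ hp hpn₁ hp8
    exact Cfsg.Agent.H321.SpecEven.not_dvd K hK S hS hSc h3' h2' h4'.symm (hswap hC')
  · intro hq y r hr hrn hd
    obtain ⟨g, hg⟩ := hlift y
    rw [← hg] at hd ⊢
    exact h.tor8 hq g r hr hrn hd
  · intro r hr hd
    refine h.prm r hr ?_
    have := Fact.mk hr
    obtain ⟨x, hx⟩ := exists_prime_orderOf_dvd_card' (G := ↥S) r hd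
    obtain ⟨g, hg⟩ := hlift x
    rw [← hx, ← hg]
    exact orderOf_dvd_natCard g
  · intro x
    obtain ⟨g, hg⟩ := hlift x
    obtain ⟨y, hy⟩ := hG g
    exact ⟨y, by rw [hy, hg]⟩

end Cfsg.Agent.R2.Spec.X1.E6.Fr
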