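import Cfsg.Agent.R2.Spec.X1.E6.Sit
import Cfsg.Agent.H72.F4I.ExcRow

/-!
# Identification of `E₆(q)`, `²E₆(q)`: exceptional rows, base (helper77, statements S3480, S3481)

* `isoN` : `Sit D S → IsoN S D.n`;
* `Sit.torAt`, `Sit.exact'` : a cyclic torus meeting `m`;
* `Dat.tab` : the numbers for `q < 8`.
-/

set_option autoImplicit false
set_option linter.unusedSectionVars false

namespace Cfsg.Agent.R2.Spec.X1.E6.ERBase

open Cfsg.Agent.R2.Spec.X1.E6 Cfsg.Agent.H129.CycT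
open Cfsg.Agent.H134.TD (TorAt torAt_of_exact)
open Cfsg.Agent.H72.F4I.Iso

variable {D : Dat} {S : Type*} [Group S]

/-- the isolated number -/
theorem isoN (h : Sit D S) : IsoN S D.n :=
  ⟨h.on, h.iso, D.n_odd, D.n_three, by have := D.one_lt_n; omega⟩

theorem ne_two {t : ℕ} (ht : t ∣ D.m) : t ≠ 2 := by
  rintro rfl
  exact D.m_odd ht

theorem ne_three {t : ℕ} (ht : t ∣ D.m) : t ≠ 3 := by
  rintro rfl
  exact D.m_three ht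

/-- a prime of `m` does not divide `n` -/
theorem not_dvd_n {t : ℕ} (ht : t.Prime) (htm : t ∣ D.m) : ¬ t ∣ D.n := fun h =>
  ht.one_lt.ne' (Nat.dvd_one.1 (D.coprime_mn ▸ Nat.dvd_gcd htm h))

/-- a torus meeting `m` -/
theorem torAt [Finite S] (h : Sit D S) {N t : ℕ} (hT : TorAt S N t) (ht : t.Prime) (htN : t ∣ N) (htm : t ∣ D.m) :
    D.m ∣ N ∧ N ∣ D.e := by
  obtain ⟨T, h1, rfl, h3⟩ := hT
  exact h.card_dvd h1 ht htN h3 htm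

theorem exact' [Finite S] (h : Sit D S) {N t : ℕ} (hN : CycExact S N) (ht : t.Prime) (htN : t ∣ N) (htm : t ∣ D.m) :
    D.m ∣ N ∧ N ∣ D.e :=
  torAt h (torAt_of_exact hN ht) ht htN htm

/-! ### numbers -/

theorem isPrimePow_six : ¬ IsPrimePow 6 := by
  rintro ⟨p, k, hp, hk, h⟩
  have hp := hp.nat_prime
  have h2 : 2 ∣ p ^ k := by rw [h]; norm_num
  have h3 : 3 ∣ p ^ k := by rw [h]; norm_num
  have h4 := (Nat.prime_dvd_prime_iff_eq Nat.prime_two hp).1 (Nat.prime_two.dvd_of_dvd_pow h2)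
  have h5 := (Nat.prime_dvd_prime_iff_eq Nat.prime_three hp).1 (Nat.prime_three.dvd_of_dvd_pow h3)
  omega

/-- **The numbers for `q < 8`.** -/
theorem tab (D : Dat) (h : D.q < 8) :
    (D.q = 2 ∧ D.ε = 1 ∧ D.d = 1 ∧ D.n = 73 ∧ D.m = 13 ∧ D.e = 91) ∨
    (D.q = 2 ∧ D.ε = -1 ∧ D.d = 3 ∧ D.n = 19 ∧ D.m = 13 ∧ D.e = 39) ∨
    (D.q = 3 ∧ D.ε = 1 ∧ D.d = 1 ∧ D.n = 757 ∧ D.m = 73 ∧ D.e = 949) ∨
    (D.q = 3 ∧ D.ε = -1 ∧ D.d = 1 ∧ D.n = 703 ∧ D.m = 73 ∧ D.e = 511) ∨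
    (D.q = 4 ∧ D.ε = 1 ∧ D.d = 3 ∧ D.n = 1387 ∧ D.m = 241 ∧ D.e = 5061) ∨
    (D.q = 4 ∧ D.ε = -1 ∧ D.d = 1 ∧ D.n = 4033 ∧ D.m = 241 ∧ D.e = 3133) ∨
    (D.q = 5 ∧ D.ε = 1 ∧ D.d = 1 ∧ D.n = 15751 ∧ D.m = 601 ∧ D.e = 18631) ∨
    (D.q = 5 ∧ D.ε = -1 ∧ D.d = 3 ∧ D.n = 5167 ∧ D.m = 601 ∧ D.e = 12621) ∨
    (D.q = 7 ∧ D.ε = 1 ∧ D.d = 3 ∧ D.n = 39331 ∧ D.m = 2353 ∧ D.e = 134121) ∨
    (D.q = 7 ∧ D.ε = -1 ∧ D.d = 1 ∧ D.n = 117307 ∧ D.m = 2353 ∧ D.e = 101179) := by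
  have h2 := D.two_le
  have hpp := D.pp
  have hd3 := D.hd3
  have hn := D.hn
  have hm := D.hm
  have he := D.he
  have hdd := D.hd
  generalize D.m = m at *
  generalize D.e = e at *
  generalize D.n = n at *
  generalize D.q = q at *
  generalize D.d = d at *
  have hq : q = 2 ∨ q = 3 ∨ q = 4 ∨ q = 5 ∨ q = 6 ∨ q = 7 := by omega
  rcases hq with rfl | rfl | rfl | rfl | rfl | rfl <;> rcases D.eps with he' | he' <;> rw [he'] at hd3 hn he <;>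
    push_cast at hd3 hn hm he ⊢ <;> rw [hm] at he <;> norm_num at hd3 hn hm he
  all_goals first
    | exact absurd hpp isPrimePow_six
    | (rcases hdd with rfl | rfl <;> push_cast at hn <;> norm_num [he'] <;> omega)

end Cfsg.Agent.R2.Spec.X1.E6.ERBase
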